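import Mathlib.CategoryTheory.Monoidal.Cartesian.Grp
import Mathlib.CategoryTheory.Monoidal.Cartesian.Over
import Mathlib.AlgebraicGeometry.Morphisms.FiniteType
import Mathlib.RingTheory.Nakayama
import Mathlib.Algebra.TrivSqZeroExt.Basic

/-!
# Torsion points of a group scheme reducing to the identity

If `B` is a group scheme locally of finite type over `R`, `W` a local `R`-algebra, `d` a `W`-point
killed by `n` invertible in `W` and reducing to `1` at the closed point, then `d = 1`: points
infinitesimally near the identity add linearly.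
-/

open CategoryTheory Limits AlgebraicGeometry MonoidalCategory CartesianMonoidalCategory MonObj

universe u

namespace Groth.Agent.SGA7Torsion

variable {R : Type u} [CommRing R]

/-- `Spec A` over `Spec R`. -/
noncomputable abbrev specOver (R A : Type u) [CommRing R] [CommRing A] [Algebra R A] :
    Over (Spec (CommRingCat.of R)) :=
  Over.mk (Spec.map (CommRingCat.ofHom (algebraMap R A)))

/-- The morphism `Spec A' ⟶ Spec A` over `R`. -/
noncomputable def specHom {A A' : Type u} [CommRing A] [CommRing A'] [Algebra R A] [Algebra R A']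
    (f : A →ₐ[R] A') : specOver R A' ⟶ specOver R A :=
  Over.homMk (Spec.map (CommRingCat.ofHom f.toRingHom)) (by
    dsimp
    rw [← Spec.map_comp, ← CommRingCat.ofHom_comp]
    congr 2
    exact f.comp_algebraMap)

@[simp] lemma specHom_left {A A' : Type u} [CommRing A] [CommRing A'] [Algebra R A] [Algebra R A']
    (f : A →ₐ[R] A') : (specHom f).left = Spec.map (CommRingCat.ofHom f.toRingHom) := rfl

lemma specHom_comp {A A' A'' : Type u} [CommRing A] [CommRing A'] [CommRing A''] [Algebra R A]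
    [Algebra R A'] [Algebra R A''] (f : A →ₐ[R] A') (g : A' →ₐ[R] A'') :
    specHom (g.comp f) = specHom g ≫ specHom f := by
  ext1
  simp only [Over.comp_left, specHom_left, ← Spec.map_comp, ← CommRingCat.ofHom_comp]
  rfl

section Chart

variable {B : Over (Spec (CommRingCat.of R))} {C : Type u} [CommRing C] [Algebra R C]
  (j : specOver R C ⟶ B)

/-- The point defined by a homomorphism on the chart `j`. -/
noncomputable def chartPt {A : Type u} [CommRing A] [Algebra R A] (h : C →ₐ[R] A) :
    specOver R A ⟶ B :=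
  specHom h ≫ j

lemma specHom_chartPt {A A' : Type u} [CommRing A] [CommRing A'] [Algebra R A] [Algebra R A']
    (f : A →ₐ[R] A') (h : C →ₐ[R] A) : specHom f ≫ chartPt j h = chartPt j (f.comp h) := by
  rw [chartPt, chartPt, specHom_comp, Category.assoc]

variable [IsOpenImmersion j.left]

lemma chartPt_injective {A : Type u} [CommRing A] [Algebra R A] {h h' : C →ₐ[R] A}
    (e : chartPt j h = chartPt j h') : h = h' := by
  have e' := congr(($e).left)
  simp only [chartPt, Over.comp_left, specHom_left] at e'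
  have := Spec.map_injective ((cancel_mono j.left).mp e')
  exact AlgHom.coe_ringHom_injective (congr(($this).hom))

lemma exists_chartPt {A : Type u} [CommRing A] [Algebra R A] (g : specOver R A ⟶ B)
    (hg : Set.range g.left ⊆ Set.range j.left) : ∃ h, g = chartPt j h := by
  let l := IsOpenImmersion.lift j.left g.left hg
  have hl : l ≫ j.left = g.left := IsOpenImmersion.lift_fac _ _ hg
  have hw : l ≫ Spec.map (CommRingCat.ofHom (algebraMap R C)) =
      Spec.map (CommRingCat.ofHom (algebraMap R A)) := by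
    have h1 := Over.w g
    rw [← hl, Category.assoc, Over.w j] at h1
    exact h1
  rw [← Spec.map_preimage l, ← Spec.map_comp] at hw
  have hw' := Spec.map_injective hw
  refine ⟨{ (Spec.preimage l).hom with commutes' := fun r => congr(($hw').hom r) }, ?_⟩
  ext1
  rw [chartPt, Over.comp_left, specHom_left]
  refine hl.symm.trans ?_
  congr 1
  exact (Spec.map_preimage l).symm

end Chart

/-- If a quotient map has nilpotent kernel, a point and its restriction have the same range. -/
lemma range_subset_of_sq {B : Over (Spec (CommRingCat.of R))} {E A : Type u} [CommRing E]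
    [CommRing A] [Algebra R E] [Algebra R A] (f : E →ₐ[R] A) (hf : Function.Surjective f)
    (hker : ∀ x, f x = 0 → IsNilpotent x) (g : specOver R E ⟶ B) :
    Set.range g.left ⊆ Set.range (specHom f ≫ g).left := by
  rintro _ ⟨x, rfl⟩
  have hx : x ∈ Set.range (PrimeSpectrum.comap f.toRingHom) := by
    rw [range_comap_of_surjective _ _ hf]
    intro z hz
    obtain ⟨k, hk⟩ := hker z hz
    have : z ^ k ∈ x.asIdeal := by rw [hk]; exact zero_mem _
    exact x.2.mem_of_pow_mem k this
  obtain ⟨y, hy⟩ := hx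
  exact ⟨y, by rw [Over.comp_left, Scheme.Hom.comp_apply]; exact congrArg g.left hy⟩

section Additive

variable {B : Over (Spec (CommRingCat.of R))} [GrpObj B] {C : Type u} [CommRing C] [Algebra R C]
  (j : specOver R C ⟶ B) [IsOpenImmersion j.left]
  {A : Type u} [CommRing A] [Algebra R A] {M : Type u} [AddCommGroup M] [Module A M]
  [Module Aᵐᵒᵖ M] [IsCentralScalar A M] [Module R M] [IsScalarTower R A M]
  [IsScalarTower R Aᵐᵒᵖ M]

open TrivSqZeroExt

/-- Two first order deformations of the identity, in independent directions, multiply to their sum. -/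
lemma chartPt_mul_tsze (ε : C →ₐ[R] A) (hε : chartPt j ε = 1)
    (P Q S : C →ₐ[R] TrivSqZeroExt A (M × M))
    (hP : ∀ c, (P c).fst = ε c ∧ (P c).snd.2 = 0)
    (hQ : ∀ c, (Q c).fst = ε c ∧ (Q c).snd.1 = 0)
    (hS : ∀ c, (S c).fst = ε c ∧ (S c).snd = ((P c).snd.1, (Q c).snd.2)) :
    chartPt j P * chartPt j Q = chartPt j S := by
  let π₁ : TrivSqZeroExt A (M × M) →ₐ[A] TrivSqZeroExt A (M × M) :=
    TrivSqZeroExt.map (LinearMap.prod (LinearMap.fst A M M) 0)
  let π₂ : TrivSqZeroExt A (M × M) →ₐ[A] TrivSqZeroExt A (M × M) :=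
    TrivSqZeroExt.map (LinearMap.prod 0 (LinearMap.snd A M M))
  let p₁ := π₁.restrictScalars R
  let p₂ := π₂.restrictScalars R
  let ε' : C →ₐ[R] TrivSqZeroExt A (M × M) := (TrivSqZeroExt.inlAlgHom R A (M × M)).comp ε
  let q : TrivSqZeroExt A (M × M) →ₐ[R] A := TrivSqZeroExt.fstHom R A (M × M)
  have hε' : chartPt j ε' = 1 := by
    rw [← specHom_chartPt, hε, comp_one]
  have hqP : q.comp P = ε := AlgHom.ext fun c => (hP c).1
  have hqQ : q.comp Q = ε := AlgHom.ext fun c => (hQ c).1
  obtain ⟨θ, hθ⟩ := exists_chartPt j (chartPt j P * chartPt j Q) (by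
    refine (range_subset_of_sq q (fun a => ⟨inl a, rfl⟩) (fun x hx => ⟨2, ?_⟩) _).trans ?_
    · have : x = inr x.snd := TrivSqZeroExt.ext (by simpa [q] using hx) rfl
      rw [this, pow_two, inr_mul_inr]
    · rw [comp_mul, specHom_chartPt, specHom_chartPt, hqP, hqQ, hε, _root_.mul_one, ← hε, chartPt,
        Over.comp_left, Scheme.Hom.comp_base, TopCat.coe_comp]
      exact Set.range_comp_subset_range _ _)
  rw [hθ]
  congr 1
  have h0 : q.comp θ = ε := chartPt_injective j (by
    rw [← specHom_chartPt, ← hθ, comp_mul, specHom_chartPt, specHom_chartPt, hqP, hqQ, hε,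
      _root_.mul_one])
  have h1 : p₁.comp θ = P := chartPt_injective j (by
    have e1 : p₁.comp P = P := AlgHom.ext fun c => TrivSqZeroExt.ext (by simp [p₁, π₁])
      (by simp [p₁, π₁]; exact Prod.ext rfl (hP c).2.symm)
    have e2 : p₁.comp Q = ε' := AlgHom.ext fun c => TrivSqZeroExt.ext
      (by simp [p₁, π₁, ε', (hQ c).1]) (by simp [p₁, π₁, ε', (hQ c).2])
    rw [← specHom_chartPt, ← hθ, comp_mul, specHom_chartPt, specHom_chartPt, e1, e2, hε',
      _root_.mul_one])
  have h2 : p₂.comp θ = Q := chartPt_injective j (by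
    have e1 : p₂.comp Q = Q := AlgHom.ext fun c => TrivSqZeroExt.ext (by simp [p₂, π₂])
      (by simp [p₂, π₂]; exact Prod.ext (hQ c).2.symm rfl)
    have e2 : p₂.comp P = ε' := AlgHom.ext fun c => TrivSqZeroExt.ext
      (by simp [p₂, π₂, ε', (hP c).1]) (by simp [p₂, π₂, ε', (hP c).2])
    rw [← specHom_chartPt, ← hθ, comp_mul, specHom_chartPt, specHom_chartPt, e1, e2, hε',
      _root_.one_mul])
  refine AlgHom.ext fun c => TrivSqZeroExt.ext ?_ ?_
  · rw [(hS c).1]; exact DFunLike.congr_fun h0 c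
  · rw [(hS c).2, ← h1, ← h2]
    simp [p₁, p₂, π₁, π₂]

end Additive

section SqZero

variable {C : Type u} [CommRing C] [Algebra R C] {A : Type u} [CommRing A] [Algebra R A]
  (I : Ideal A) (hI : ∀ a ∈ I, ∀ b ∈ I, a * b = 0) (ε : C →ₐ[R] A) (δ : C →ₗ[R] A)
  (hδ : ∀ c, δ c ∈ I) (hL : ∀ c d, δ (c * d) = ε c * δ d + ε d * δ c) (h1 : δ 1 = 0)

open TrivSqZeroExt

/-- The first order deformation `ε + (a δ, b δ)`. -/
noncomputable def deform (a b : ℕ) : C →ₐ[R] TrivSqZeroExt A (I × I) where
  toFun c := inl (ε c) + inr (a • ⟨δ c, hδ c⟩, b • ⟨δ c, hδ c⟩)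
  map_one' := by
    refine TrivSqZeroExt.ext (by simp) ?_
    simp [h1, Prod.ext_iff, Subtype.ext_iff]
  map_mul' c d := by
    refine TrivSqZeroExt.ext (by simp) ?_
    simp [Prod.ext_iff, Subtype.ext_iff, hL, smul_eq_mul, nsmul_eq_mul]
    constructor <;> ring
  map_zero' := by
    refine TrivSqZeroExt.ext (by simp) ?_
    simp [Prod.ext_iff, Subtype.ext_iff]
  map_add' c d := by
    refine TrivSqZeroExt.ext (by simp) ?_
    simp [nsmul_eq_mul]
  commutes' r := by
    have : δ (algebraMap R C r) = 0 := by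
      rw [Algebra.algebraMap_eq_smul_one, map_smul, h1, smul_zero]
    refine TrivSqZeroExt.ext (by simp [TrivSqZeroExt.algebraMap_eq_inl']) ?_
    simp [TrivSqZeroExt.algebraMap_eq_inl', Prod.ext_iff, Subtype.ext_iff, this]

/-- The sum map `A ⊕ (I × I) → A`. -/
noncomputable def sumMap : TrivSqZeroExt A (I × I) →ₐ[R] A :=
  (TrivSqZeroExt.lift (AlgHom.id A A)
    ((Submodule.subtype I).comp (LinearMap.fst A I I) + (Submodule.subtype I).comp (LinearMap.snd A I I))
    (fun x y => hI _ (I.add_mem x.1.2 x.2.2) _ (I.add_mem y.1.2 y.2.2))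
    (fun r x => by simp [mul_add])
    (fun r x => by simp [mul_add, mul_comm])).restrictScalars R

lemma sumMap_deform_apply (a b : ℕ) (c : C) :
    sumMap (R := R) I hI (deform I ε δ hδ hL h1 a b c) = ε c + (a + b) • δ c := by
  simp [sumMap, deform, TrivSqZeroExt.lift_def, add_smul]

variable {B : Over (Spec (CommRingCat.of R))} [GrpObj B] (j : specOver R C ⟶ B)
  [IsOpenImmersion j.left]

lemma pow_eq_chartPt (hε : chartPt j ε = 1) (d : specOver R A ⟶ B) (ψ : C →ₐ[R] A)
    (hψ : ∀ c, ψ c = ε c + δ c) (hd : d = chartPt j ψ) (k : ℕ) :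
    d ^ k = chartPt j ((sumMap (R := R) I hI).comp (deform I ε δ hδ hL h1 k 0)) := by
  induction k with
  | zero =>
    rw [pow_zero, ← hε]
    congr 1
    exact AlgHom.ext fun c => by simp [sumMap_deform_apply]
  | succ k ih =>
    rw [pow_succ, ih, hd]
    have e : ψ = (sumMap (R := R) I hI).comp (deform I ε δ hδ hL h1 0 1) :=
      AlgHom.ext fun c => by simp [sumMap_deform_apply, hψ]
    rw [e, ← specHom_chartPt, ← specHom_chartPt, ← comp_mul,
      chartPt_mul_tsze j ε hε _ _ (deform I ε δ hδ hL h1 k 1)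
        (fun c => by simp [deform]) (fun c => by simp [deform]) (fun c => by simp [deform]),
      specHom_chartPt]
    congr 1
    exact AlgHom.ext fun c => by simp [sumMap_deform_apply]

end SqZero

lemma range_subset_open {B : Over (Spec (CommRingCat.of R))} {W : Type u} [CommRing W]
    [IsLocalRing W] [Algebra R W] (g : specOver R W ⟶ B) (U : B.left.Opens)
    (hg : g.left (IsLocalRing.closedPoint W) ∈ U) : Set.range g.left ⊆ U := by
  rintro _ ⟨x, rfl⟩
  exact ((IsLocalRing.specializes_closedPoint x).map g.left.continuous).mem_open U.isOpen hg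

/-- **Torsion points prime to the residue characteristic that reduce to `1` are trivial.** -/
theorem eq_one_of_pow_eq_one (B : Over (Spec (CommRingCat.of R))) [GrpObj B]
    [LocallyOfFiniteType B.hom] {W : Type u} [CommRing W] [IsLocalRing W] [Algebra R W]
    (d : specOver R W ⟶ B) (n : ℕ) (hn : IsUnit (n : W)) (hd : d ^ n = 1)
    (hc : specHom (Ideal.Quotient.mkₐ R (IsLocalRing.maximalIdeal W)) ≫ d = 1) : d = 1 := by
  classical
  let m := IsLocalRing.maximalIdeal W
  let pc := IsLocalRing.closedPoint W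
  obtain ⟨U, hU, hxU, -⟩ := exists_isAffineOpen_mem_and_subset (U := ⊤)
    (x := (1 : specOver R W ⟶ B).left pc) trivial
  let α : R →+* Γ(B.left, U) := (Spec.preimage (hU.fromSpec ≫ B.hom)).hom
  algebraize [α]
  have hα : Spec.map (CommRingCat.ofHom (algebraMap R Γ(B.left, U))) = hU.fromSpec ≫ B.hom :=
    Spec.map_preimage _
  let j : specOver R Γ(B.left, U) ⟶ B := Over.homMk hU.fromSpec hα.symm
  haveI : IsOpenImmersion j.left := inferInstanceAs (IsOpenImmersion hU.fromSpec)
  have hrange : Set.range j.left = (U : Set B.left) := hU.range_fromSpec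
  have hft : Algebra.FiniteType R Γ(B.left, U) := by
    have h : LocallyOfFiniteType (Spec.map (CommRingCat.ofHom (algebraMap R Γ(B.left, U)))) := by
      rw [hα]; infer_instance
    exact (HasRingHomProperty.Spec_iff (P := @LocallyOfFiniteType)).mp h
  have hdU : d.left pc ∈ U := by
    have h1 : specHom (Ideal.Quotient.mkₐ R m) ≫ (1 : specOver R W ⟶ B) = 1 := comp_one _
    have h2 := congr(($(hc.trans h1.symm)).left)
    simp only [Over.comp_left] at h2
    let y : Spec (CommRingCat.of (W ⧸ m)) := ⟨⊥, Ideal.isPrime_bot⟩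
    have hy : (specHom (Ideal.Quotient.mkₐ R m)).left y = pc := by
      apply PrimeSpectrum.ext
      show Ideal.comap (Ideal.Quotient.mk m) ⊥ = m
      rw [← RingHom.ker, Ideal.mk_ker]
    have h3 := congr($h2 y)
    rw [Scheme.Hom.comp_apply, Scheme.Hom.comp_apply, hy] at h3
    rwa [h3]
  obtain ⟨ψ, hψ⟩ := exists_chartPt j d (hrange ▸ range_subset_open d U hdU)
  obtain ⟨ε, hε⟩ := exists_chartPt j (1 : specOver R W ⟶ B) (hrange ▸ range_subset_open _ U hxU)
  suffices ψ = ε by rw [hψ, this, ← hε]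
  obtain ⟨s, hs⟩ := hft.out
  let 𝔞 : Ideal W := Ideal.span ((fun g => ψ g - ε g) '' (s : Set Γ(B.left, U)))
  have h𝔞 : ∀ c, ψ c - ε c ∈ 𝔞 := by
    intro c
    have hle : Algebra.adjoin R (s : Set Γ(B.left, U)) ≤
        AlgHom.equalizer ((Ideal.Quotient.mkₐ R 𝔞).comp ψ) ((Ideal.Quotient.mkₐ R 𝔞).comp ε) :=
      Algebra.adjoin_le fun g hg =>
        Ideal.Quotient.mk_eq_mk_iff_sub_mem _ _ |>.mpr (Ideal.subset_span ⟨g, hg, rfl⟩)
    rw [hs] at hle
    exact (Ideal.Quotient.mk_eq_mk_iff_sub_mem _ _).mp (hle (trivial : c ∈ ⊤))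
  have hm : ∀ c, ψ c - ε c ∈ m := by
    have e : chartPt j ((Ideal.Quotient.mkₐ R m).comp ψ) =
        chartPt j ((Ideal.Quotient.mkₐ R m).comp ε) := by
      rw [← specHom_chartPt, ← specHom_chartPt, ← hψ, ← hε, hc, comp_one]
    intro c
    exact (Ideal.Quotient.mk_eq_mk_iff_sub_mem _ _).mp
      (DFunLike.congr_fun (chartPt_injective j e) c)
  have h𝔞m : 𝔞 ≤ m := Ideal.span_le.mpr (by rintro _ ⟨g, -, rfl⟩; exact hm g)
  have h𝔞bot : 𝔞 = ⊥ := by
    refine Submodule.eq_bot_of_le_smul_of_le_jacobson_bot m 𝔞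
      (Submodule.fg_span (s.finite_toSet.image _)) ?_ ?_
    swap
    · rw [IsLocalRing.jacobson_eq_maximalIdeal _ (by simp)]
    rw [smul_eq_mul]
    let 𝔟 : Ideal W := m * 𝔞
    let q : W →ₐ[R] W ⧸ 𝔟 := Ideal.Quotient.mkₐ R 𝔟
    let I : Ideal (W ⧸ 𝔟) := 𝔞.map (Ideal.Quotient.mk 𝔟)
    have hI : ∀ a ∈ I, ∀ b ∈ I, a * b = 0 := by
      intro a ha b hb
      obtain ⟨a', ha', rfl⟩ := (Ideal.mem_map_iff_of_surjective _ Ideal.Quotient.mk_surjective).mp ha
      obtain ⟨b', hb', rfl⟩ := (Ideal.mem_map_iff_of_surjective _ Ideal.Quotient.mk_surjective).mp hb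
      rw [← map_mul, Ideal.Quotient.eq_zero_iff_mem]
      exact Ideal.mul_mem_mul (h𝔞m ha') hb'
    let ψ' := q.comp ψ
    let ε' := q.comp ε
    let δ : Γ(B.left, U) →ₗ[R] W ⧸ 𝔟 := ψ'.toLinearMap - ε'.toLinearMap
    have hδ : ∀ c, δ c ∈ I := fun c => by
      show q (ψ c) - q (ε c) ∈ I
      rw [← map_sub]
      exact Ideal.mem_map_of_mem _ (h𝔞 c)
    have hL : ∀ c e, δ (c * e) = ε' c * δ e + ε' e * δ c := by
      intro c e
      have h0 := hI _ (hδ c) _ (hδ e)
      simp only [δ, LinearMap.sub_apply, AlgHom.toLinearMap_apply, map_mul] at h0 ⊢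
      linear_combination h0
    have h1 : δ 1 = 0 := by simp [δ, ψ', ε']
    have hε' : chartPt j ε' = 1 := by rw [← specHom_chartPt, ← hε, comp_one]
    have hpow := pow_eq_chartPt I hI ε' δ hδ hL h1 j hε' (specHom q ≫ d) ψ'
      (fun c => by simp [δ]) (by rw [hψ, specHom_chartPt]) n
    have hd' : (specHom q ≫ d) ^ n = 1 := by rw [← comp_pow, hd, comp_one]
    have heq := chartPt_injective j (hpow.symm.trans (hd'.trans hε'.symm))
    refine Ideal.span_le.mpr ?_
    rintro _ ⟨g, -, rfl⟩
    have hg := DFunLike.congr_fun heq g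
    rw [AlgHom.comp_apply, sumMap_deform_apply, add_zero, add_eq_left, nsmul_eq_mul] at hg
    have hu : IsUnit (n : W ⧸ 𝔟) := by simpa using hn.map q
    have hg' : δ g = 0 := hu.mul_right_eq_zero.mp hg
    exact Ideal.Quotient.eq_zero_iff_mem.mp ((map_sub q (ψ g) (ε g)).trans hg')
  refine AlgHom.ext fun c => sub_eq_zero.mp ?_
  simpa [h𝔞bot] using h𝔞 c

end Groth.Agent.SGA7Torsion
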