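import Groth.Prelude.Def_SGA7a
import Groth.Agent.Lib.SGA7Torsion.Infinitesimal
import Mathlib.AlgebraicGeometry.ValuativeCriterion

/-!
# Inertia fixes the torsion points of a proper group scheme over the valuation ring
-/

open CategoryTheory Limits AlgebraicGeometry MonoidalCategory CartesianMonoidalCategory MonObj
open SGA7

universe u

namespace Groth.Agent.SGA7Torsion

attribute [local instance] Functor.grpObjObj

variable (R K Ω : Type u) [CommRing R] [Field K] [Algebra R K] [Field Ω] [Algebra K Ω]

/-- The structure map `Spec K ⟶ Spec R`. -/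
noncomputable abbrev gen : Spec (CommRingCat.of K) ⟶ Spec (CommRingCat.of R) :=
  Spec.map (CommRingCat.ofHom (algebraMap R K))

/-- A point of the generic fibre fixed by inertia. -/
theorem galAct_eq_of_pow_eq_one (W : ValuationSubring Ω)
    (hW : ∀ r : R, algebraMap K Ω (algebraMap R K r) ∈ W)
    (B : Over (Spec (CommRingCat.of R))) [GrpObj B] [IsProper B.hom]
    (hcomm : ∀ y y' : Pts Ω ((Over.pullback (gen R K)).obj B), Commute y y')
    (n : ℕ) (hn : IsUnit (n : R)) (σ : Ω ≃ₐ[K] Ω) (hσ : IsInertia W σ)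
    (y : Pts Ω ((Over.pullback (gen R K)).obj B)) (hy : y ^ n = 1) : galAct σ y = y := by
  let g := gen R K
  let adj := Over.mapPullbackAdj g
  let P : Over (Spec (CommRingCat.of R)) := (Over.map g).obj (pt (K := K) Ω)
  -- the adjunction is multiplicative
  let e := adj.homEquiv (pt (K := K) Ω) B
  have he : ∀ a b : P ⟶ B, e (a * b) = e a * e b := fun a b => by
    simp only [e, Adjunction.homEquiv_unit]
    exact (congrArg _ (Functor.map_mul (Over.pullback g) a b)).trans (comp_mul _ _ _)
  let eM : (P ⟶ B) →* Pts Ω ((Over.pullback g).obj B) := MonoidHom.mk' e he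
  have heM : Function.Injective eM := e.injective
  obtain ⟨z₀, rfl⟩ := e.surjective y
  have hz₀ : z₀ ^ n = 1 := heM (by rw [map_pow, map_one]; exact hy)
  have hcommP : ∀ a b : P ⟶ B, Commute a b := fun a b =>
    heM (by rw [map_mul, map_mul]; exact hcomm _ _)
  change specAut σ ≫ e z₀ = e z₀
  rw [← adj.homEquiv_naturality_left]
  congr 1
  -- `Spec W` over `R`
  letI : Algebra R W := (((algebraMap K Ω).comp (algebraMap R K)).codRestrict W.toSubring hW).toAlgebra
  let Q : Over (Spec (CommRingCat.of R)) := specOver R W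
  let incl : CommRingCat.of W ⟶ CommRingCat.of Ω := CommRingCat.ofHom (algebraMap W Ω)
  have hincl : Spec.map incl ≫ Q.hom = P.hom := by
    change Spec.map incl ≫ Spec.map _ = Spec.map _ ≫ Spec.map _
    rw [← Spec.map_comp, ← Spec.map_comp]
    rfl
  let j : P ⟶ Q := Over.homMk (Spec.map incl) hincl
  -- `σ` on `W`
  let σW : W →ₐ[R] W :=
    { toFun := fun w => ⟨σ w, (hσ w w.2).1⟩
      map_one' := Subtype.ext (map_one σ)
      map_mul' := fun a b => Subtype.ext (map_mul σ _ _)
      map_zero' := Subtype.ext (map_zero σ)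
      map_add' := fun a b => Subtype.ext (map_add σ _ _)
      commutes' := fun r => Subtype.ext (σ.commutes _) }
  have hjσ : (Over.map g).map (specAut σ) ≫ j = j ≫ specHom σW := by
    ext1
    change Spec.map _ ≫ Spec.map incl = Spec.map incl ≫ Spec.map _
    rw [← Spec.map_comp, ← Spec.map_comp]
    rfl
  -- valuative criterion
  have hval : ValuativeCriterion B.hom := by
    have h : IsProper B.hom := inferInstance
    rw [IsProper.eq_valuativeCriterion] at h
    exact h.1.1.1
  let S (a : P ⟶ B) : ValuativeCommSq B.hom :=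
    { R := W, K := Ω, i₁ := a.left, i₂ := Q.hom, commSq := ⟨(Over.w a).trans hincl.symm⟩ }
  obtain ⟨⟨⟨l⟩, -⟩⟩ := hval (S z₀)
  let z : Q ⟶ B := Over.homMk l.l l.fac_right
  have hz : j ≫ z = z₀ := Over.OverMorphism.ext l.fac_left
  have hinj : Function.Injective fun a : Q ⟶ B => j ≫ a := fun a b hab => by
    have hu := hval.uniqueness (S (j ≫ a))
    have hab' : (j ≫ a).left = Spec.map incl ≫ b.left := congr(($hab).left)
    let la : (S (j ≫ a)).commSq.LiftStruct :=
      { l := a.left, fac_left := rfl, fac_right := Over.w a }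
    let lb : (S (j ≫ a)).commSq.LiftStruct :=
      { l := b.left, fac_left := hab'.symm, fac_right := Over.w b }
    exact Over.OverMorphism.ext (congrArg CommSq.LiftStruct.l (hu.elim la lb))
  let res : (Q ⟶ B) →* (P ⟶ B) := MonoidHom.mk' (fun a => j ≫ a) (fun a b => comp_mul _ _ _)
  have hres : Function.Injective res := hinj
  have hzn : z ^ n = 1 := hres (by rw [map_pow, map_one]; exact (congrArg (· ^ n) hz).trans hz₀)
  let z' : Q ⟶ B := specHom σW ≫ z
  have hz'n : z' ^ n = 1 := by rw [← comp_pow, hzn, comp_one]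
  have hzc : Commute z' z := hres (by rw [map_mul, map_mul]; exact hcommP _ _)
  let d := z' * z⁻¹
  have hd : d ^ n = 1 := by
    rw [(hzc.inv_right).mul_pow, hz'n, inv_pow, hzn, inv_one, _root_.one_mul]
  have hσm : (Ideal.Quotient.mkₐ R (IsLocalRing.maximalIdeal W)).comp σW =
      Ideal.Quotient.mkₐ R (IsLocalRing.maximalIdeal W) := by
    refine AlgHom.ext fun w => (Ideal.Quotient.mk_eq_mk_iff_sub_mem _ _).mpr ?_
    exact (W.valuation_lt_one_iff _).mpr (hσ w w.2).2
  have hc : specHom (Ideal.Quotient.mkₐ R (IsLocalRing.maximalIdeal W)) ≫ d = 1 := by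
    rw [comp_mul, GrpObj.comp_inv, ← Category.assoc, ← specHom_comp, hσm, mul_inv_cancel]
  have hnW : IsUnit (n : W) := by simpa using hn.map (algebraMap R W)
  have hz' : z' = z := mul_inv_eq_one.mp (eq_one_of_pow_eq_one B d n hnW hd hc)
  rw [← hz, ← Category.assoc, hjσ, Category.assoc, show specHom σW ≫ z = z from hz']

end Groth.Agent.SGA7Torsion
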